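import Mathlib.RingTheory.AdicCompletion.Completeness
import Mathlib.RingTheory.AdicCompletion.Algebra
import Mathlib.RingTheory.Polynomial.Basic
import Mathlib.RingTheory.MvPolynomial.Homogeneous

/-! A ring which is complete for a finitely generated ideal `I` with noetherian `A ⧸ I` is noetherian. -/

namespace Groth.Agent.Completion.NoetherianComplete

universe u

open MvPolynomial Finset

variable {A : Type u} [CommRing A]

theorem homogeneousComponent_mul_of_isHomogeneous {σ : Type*} (H : MvPolynomial σ A)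
    {F : MvPolynomial σ A} {d : ℕ} (hF : F.IsHomogeneous d) (m : ℕ) :
    homogeneousComponent m (H * F) =
      if d ≤ m then homogeneousComponent (m - d) H * F else 0 := by
  conv_lhs => rw [← sum_homogeneousComponent H, Finset.sum_mul, map_sum]
  have key : ∀ i, homogeneousComponent m (homogeneousComponent i H * F) =
      if m = i + d then homogeneousComponent i H * F else 0 := fun i =>
    homogeneousComponent_of_mem ((homogeneousComponent_isHomogeneous i H).mul hF)
  simp only [key]
  split_ifs with hdm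
  · by_cases hm : m - d < H.totalDegree + 1
    · rw [Finset.sum_eq_single (m - d)]
      · rw [if_pos (by omega)]
      · intro b _ hb; rw [if_neg (by omega)]
      · intro hb; exact absurd (Finset.mem_range.2 hm) hb
    · rw [homogeneousComponent_eq_zero _ _ (by omega), zero_mul]
      exact Finset.sum_eq_zero fun b hb => if_neg (by rw [Finset.mem_range] at hb; omega)
  · exact Finset.sum_eq_zero fun b _ => if_neg (by omega)

theorem exists_sum_of_mem (I : Ideal A) [IsAdicComplete I A] {r : ℕ} (a : Fin r → A) (x : A)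
    (D : ℕ) (𝔞 : Ideal A) (ha : ∀ i, a i ∈ 𝔞) (hx : x ∈ 𝔞)
    (hstep : ∀ m, ∀ y ∈ 𝔞, y ∈ I ^ m → ∃ c : Fin r → A,
      (∀ i, c i ∈ I ^ (m - D)) ∧ y - ∑ i, c i * a i ∈ I ^ (m + 1)) :
    x ∈ Ideal.span (Set.range a) := by
  classical
  choose! c hc hc' using hstep
  -- the sequence of remainders
  let y : ℕ → A := fun m => Nat.rec x (fun m y => y - ∑ i, c m y i * a i) m
  have hy : ∀ m, y m ∈ 𝔞 ∧ y m ∈ I ^ m := by
    intro m
    induction m with
    | zero => exact ⟨hx, by simp⟩
    | succ m ih =>
      exact ⟨𝔞.sub_mem ih.1 (𝔞.sum_mem fun i _ => 𝔞.mul_mem_left _ (ha i)),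
        hc' m (y m) ih.1 ih.2⟩
  let s : Fin r → ℕ → A := fun i n => ∑ m ∈ range (n + D), c m (y m) i
  have hcauchy : ∀ i, ∀ {m n}, m ≤ n → s i m ≡ s i n [SMOD (I ^ m • ⊤ : Ideal A)] := by
    intro i m n hmn
    refine SModEq.symm ?_
    rw [SModEq.sub_mem, smul_eq_mul, Ideal.mul_top]
    have : s i n - s i m = ∑ k ∈ Ico (m + D) (n + D), c k (y k) i := by
      rw [sub_eq_iff_eq_add', Finset.sum_range_add_sum_Ico _ (by omega)]
    rw [this]
    refine Ideal.sum_mem _ fun k hk => Ideal.pow_le_pow_right ?_ (hc k (y k) (hy k).1 (hy k).2 i)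
    rw [Finset.mem_Ico] at hk; omega
  choose L hL using fun i => IsPrecomplete.prec' (I := I) (s i) (hcauchy i)
  have hxeq : x = ∑ i, L i * a i := by
    rw [← sub_eq_zero]
    apply IsHausdorff.haus' (I := I)
    intro n
    rw [SModEq.zero, smul_eq_mul, Ideal.mul_top]
    have hrem : ∀ N, x - y N = ∑ m ∈ range N, ∑ i, c m (y m) i * a i := by
      intro N
      induction N with
      | zero => simp [y]
      | succ N ih =>
        rw [Finset.sum_range_succ, ← ih]
        show x - (y N - _) = _
        ring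
    have h1 : x - ∑ i, L i * a i = y (n + D) + ∑ i, (s i n - L i) * a i := by
      have := hrem (n + D)
      rw [Finset.sum_comm] at this
      simp only [sub_mul, Finset.sum_sub_distrib, s, Finset.sum_mul]
      linear_combination this
    rw [h1]
    refine add_mem (Ideal.pow_le_pow_right (by omega) (hy (n + D)).2) (Ideal.sum_mem _ fun i _ => ?_)
    have := hL i n
    rw [SModEq.sub_mem, smul_eq_mul, Ideal.mul_top] at this
    exact Ideal.mul_mem_right _ _ this
  rw [hxeq]
  exact Ideal.sum_mem _ fun i _ => Ideal.mul_mem_left _ _ (Ideal.subset_span ⟨i, rfl⟩)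

theorem isNoetherianRing_of_isAdicComplete (I : Ideal A) (hI : I.FG) [IsAdicComplete I A]
    [IsNoetherianRing (A ⧸ I)] : IsNoetherianRing A := by
  classical
  obtain ⟨n, f, hf⟩ := Submodule.fg_iff_exists_fin_generating_family.1 hI
  rw [← Ideal.span] at hf
  refine (isNoetherianRing_iff_ideal_fg A).2 fun 𝔞 => ?_
  let T : Set (MvPolynomial (Fin n) A) :=
    {F | ∃ d, F.IsHomogeneous d ∧ eval f F ∈ 𝔞 ⊔ I ^ (d + 1)}
  let K := Ideal.span T
  have hker : RingHom.ker (MvPolynomial.map (σ := Fin n) (Ideal.Quotient.mk I)) ≤ K := by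
    rw [MvPolynomial.ker_map, Ideal.mk_ker, Ideal.map_le_iff_le_comap]
    intro j hj
    exact Ideal.subset_span ⟨0, isHomogeneous_C _ j, by
      rw [eval_C]; exact Ideal.mem_sup_right (by simpa using hj)⟩
  have hK : K.FG := by
    let φ := MvPolynomial.map (σ := Fin n) (Ideal.Quotient.mk I)
    have hφ : Function.Surjective φ := MvPolynomial.map_surjective _ Ideal.Quotient.mk_surjective
    obtain ⟨G, hG⟩ : (K.map φ).FG := (isNoetherianRing_iff_ideal_fg _).1 inferInstance _
    choose g hg using hφ
    have hKeq : K = Ideal.span (g '' (G : Set _)) ⊔ RingHom.ker φ := by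
      conv_lhs => rw [← sup_eq_left.2 hker, RingHom.ker_eq_comap_bot,
        ← Ideal.comap_map_of_surjective φ (fun z => ⟨g z, hg z⟩)]
      rw [← hG, RingHom.ker_eq_comap_bot, ← Ideal.comap_map_of_surjective φ (fun z => ⟨g z, hg z⟩),
        Ideal.map_span, ← Set.image_comp, show (φ ∘ g) = id from funext hg, Set.image_id]
    rw [hKeq]
    refine Submodule.FG.sup (Submodule.fg_span (G.finite_toSet.image g)) ?_
    rw [show RingHom.ker φ = _ from MvPolynomial.ker_map _, Ideal.mk_ker]
    exact hI.map _
  obtain ⟨S, hST, hS⟩ := (Submodule.fg_span_iff_fg_span_finset_subset T).1 hK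
  obtain ⟨r, F, rfl⟩ : ∃ (r : ℕ) (F : Fin r → MvPolynomial (Fin n) A), Finset.univ.image F = S :=
    ⟨S.card, fun i => (S.equivFin.symm i : MvPolynomial (Fin n) A), by
      ext z
      simp only [Finset.mem_image, Finset.mem_univ, true_and]
      exact ⟨by rintro ⟨i, rfl⟩; exact (S.equivFin.symm i).2, fun hz => ⟨S.equivFin ⟨z, hz⟩, by simp⟩⟩⟩
  have hFT : ∀ i, F i ∈ T := fun i => hST (by simp)
  choose d hd hev using hFT
  have hev' : ∀ i, ∃ a ∈ 𝔞, eval f (F i) - a ∈ I ^ (d i + 1) := fun i => by
    obtain ⟨a, ha, b, hb, hab⟩ := Submodule.mem_sup.1 (hev i)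
    exact ⟨a, ha, by rwa [← hab, add_sub_cancel_left]⟩
  choose a ha ha' using hev'
  suffices 𝔞 = Ideal.span (Set.range a) from
    this ▸ Submodule.fg_span (Set.finite_range a)
  refine le_antisymm (fun x hx => ?_) (Ideal.span_le.2 (Set.range_subset_iff.2 ha))
  refine exists_sum_of_mem I a x (Finset.univ.sup d) 𝔞 ha hx fun m y hy hym => ?_
  rw [← hf, Ideal.mem_span_pow_iff_exists_isHomogeneous] at hym
  obtain ⟨G, hG, rfl⟩ := hym
  have hGK : G ∈ Ideal.span (Set.range F) := by
    have : G ∈ K := Ideal.subset_span ⟨m, hG, Ideal.mem_sup_left hy⟩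
    rwa [show K = _ from hS, Finset.coe_image, Finset.coe_univ, Set.image_univ] at this
  obtain ⟨H, hH⟩ := (Submodule.mem_span_range_iff_exists_fun _).1 hGK
  refine ⟨fun i => if d i ≤ m then eval f (homogeneousComponent (m - d i) (H i)) else 0,
    fun i => ?_, ?_⟩
  · dsimp only
    split_ifs with h
    · refine Ideal.pow_le_pow_right (Nat.sub_le_sub_left (Finset.le_sup (Finset.mem_univ i)) m) ?_
      rw [← hf, Ideal.mem_span_pow_iff_exists_isHomogeneous]
      exact ⟨_, homogeneousComponent_isHomogeneous _ _, rfl⟩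
    · exact zero_mem _
  · have hG' : G = ∑ i, if d i ≤ m then homogeneousComponent (m - d i) (H i) * F i else 0 := by
      conv_lhs => rw [← homogeneousComponent_eq_self hG, ← hH, map_sum]
      exact Finset.sum_congr rfl fun i _ => by
        rw [smul_eq_mul, homogeneousComponent_mul_of_isHomogeneous _ (hd i)]
    rw [hG', map_sum, ← Finset.sum_sub_distrib]
    refine Ideal.sum_mem _ fun i _ => ?_
    dsimp only
    split_ifs with h
    · rw [map_mul, ← mul_sub, show m + 1 = (m - d i) + (d i + 1) by omega, pow_add]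
      refine Ideal.mul_mem_mul ?_ (ha' i)
      rw [← hf, Ideal.mem_span_pow_iff_exists_isHomogeneous]
      exact ⟨_, homogeneousComponent_isHomogeneous _ _, rfl⟩
    · simp

theorem isNoetherianRing_adicCompletion {R : Type u} [CommRing R] (I : Ideal R) (hI : I.FG)
    [IsNoetherianRing (R ⧸ I)] : IsNoetherianRing (AdicCompletion I R) := by
  set J := I.map (algebraMap R (AdicCompletion I R)) with hJ
  have : IsAdicComplete J (AdicCompletion I R) :=
    (IsAdicComplete.map_algebraMap_iff I (AdicCompletion I R)).2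
      (AdicCompletion.isAdicComplete hI)
  have : IsNoetherianRing (AdicCompletion I R ⧸ J) := by
    have hker := AdicCompletion.ker_evalOneₐ_eq_map I hI
    let e := Ideal.quotEquivOfEq hker.symm
    let g := RingHom.kerLift (AdicCompletion.evalOneₐ I).toRingHom
    have hbij : Function.Bijective g := ⟨RingHom.kerLift_injective _, fun z => by
      obtain ⟨w, hw⟩ := AdicCompletion.evalOneₐ_surjective I z
      exact ⟨Ideal.Quotient.mk _ w, hw⟩⟩
    exact isNoetherianRing_of_ringEquiv _ ((RingEquiv.ofBijective g hbij).symm.trans e.symm)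
  exact isNoetherianRing_of_isAdicComplete J (hI.map _)

end Groth.Agent.Completion.NoetherianComplete
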