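import Mathlib.RingTheory.Filtration
import Mathlib.LinearAlgebra.Quotient.Pi
import Mathlib.RingTheory.Finiteness.Cardinality
import Mathlib.RingTheory.Noetherian.Basic
import Mathlib.RingTheory.Finiteness.Basic
import Mathlib.Algebra.Module.Submodule.Range

/-!
Artin–Rees consequences: homology of a complex modulo powers of an ideal, and homomorphisms
into quotients by powers of an ideal.
-/

set_option autoImplicit false

namespace Groth.Agent.Completion.ArtinReesHom

universe v w

variable {A : Type*} [CommRing A] (I : Ideal A)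

theorem exists_subspace_bound [IsNoetherianRing A] {L : Type*} [AddCommGroup L] [Module A L]
    [Module.Finite A L] (N : Submodule A L) :
    ∃ c : ℕ, ∀ n z, z ∈ N → z ∈ (I ^ n • ⊤ : Submodule A L) → z ∈ I ^ (n - c) • N := by
  obtain ⟨c, hc⟩ := I.exists_pow_inf_eq_pow_smul N
  refine ⟨c, fun n z hzN hz => ?_⟩
  by_cases h : c ≤ n
  · have : z ∈ I ^ (n - c) • (I ^ c • ⊤ ⊓ N) := hc n h ▸ Submodule.mem_inf.2 ⟨hz, hzN⟩
    exact Submodule.smul_mono le_rfl inf_le_right this
  · rw [Nat.sub_eq_zero_of_le (by omega), pow_zero, Ideal.one_eq_top, Submodule.top_smul]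
    exact hzN

theorem exists_range_bound [IsNoetherianRing A] {L M : Type*} [AddCommGroup L] [Module A L]
    [AddCommGroup M] [Module A M] [Module.Finite A M] (β : L →ₗ[A] M) :
    ∃ c : ℕ, ∀ n y, β y ∈ (I ^ n • ⊤ : Submodule A M) →
      ∃ w ∈ (I ^ (n - c) • ⊤ : Submodule A L), y - w ∈ LinearMap.ker β := by
  obtain ⟨c, hc⟩ := exists_subspace_bound I (LinearMap.range β)
  refine ⟨c, fun n y hy => ?_⟩
  have h := hc n (β y) ⟨y, rfl⟩ hy
  rw [← Submodule.map_top, ← Submodule.map_smul''] at h
  obtain ⟨w, hw, hwy⟩ := h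
  exact ⟨w, hw, by rw [LinearMap.mem_ker, map_sub, hwy, sub_self]⟩

theorem smul_mem_pow {L : Type*} [AddCommGroup L] [Module A L] (N : Submodule A L) {n c : ℕ} {w : L}
    {a : A} (ha : a ∈ I ^ c) (hw : w ∈ I ^ (n - c) • N) : a • w ∈ I ^ n • N := by
  have := Submodule.smul_mem_smul ha hw
  rw [← Submodule.mul_smul, ← pow_add] at this
  exact Submodule.smul_mono_left (Ideal.pow_le_pow_right (by omega)) this

theorem mem_pow_pi_iff {N : Type*} [AddCommGroup N] [Module A N] {ι : Type*} [Finite ι] (n : ℕ)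
    (g : ι → N) :
    g ∈ (I ^ n • ⊤ : Submodule A (ι → N)) ↔ ∀ i, g i ∈ (I ^ n • ⊤ : Submodule A N) := by
  classical
  haveI := Fintype.ofFinite ι
  constructor
  · intro h i
    have := Submodule.mem_map_of_mem (f := LinearMap.proj (R := A) (φ := fun _ : ι => N) i) h
    rw [Submodule.map_smul''] at this
    exact Submodule.smul_mono le_rfl le_top this
  · intro h
    rw [← Finset.univ_sum_single g]
    refine Submodule.sum_mem _ fun i _ => ?_
    have := Submodule.mem_map_of_mem (f := LinearMap.single A (fun _ : ι => N) i) (h i)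
    rw [Submodule.map_smul''] at this
    exact Submodule.smul_mono le_rfl le_top this

/-- Homomorphisms into a finite module approximate homomorphisms into its quotients. -/
theorem exists_hom_lift_bound [IsNoetherianRing A] {M : Type v} {N : Type w} [AddCommGroup M] [Module A M]
    [Module.Finite A M] [AddCommGroup N] [Module A N] [Module.Finite A N] :
    ∃ c : ℕ, (∀ (n : ℕ) (ψ : M →ₗ[A] N ⧸ (I ^ n • ⊤ : Submodule A N)), ∃ φ : M →ₗ[A] N,
        (Submodule.factor (Submodule.smul_mono_left (Ideal.pow_le_pow_right (Nat.sub_le n c)) :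
            (I ^ n • ⊤ : Submodule A N) ≤ I ^ (n - c) • ⊤)).comp ψ =
          (I ^ (n - c) • ⊤ : Submodule A N).mkQ.comp φ ∧
        ∀ a ∈ I ^ c, (I ^ n • ⊤ : Submodule A N).mkQ.comp (a • φ) = a • ψ) ∧
      ∀ (n : ℕ) (φ : M →ₗ[A] N), (∀ m, φ m ∈ (I ^ n • ⊤ : Submodule A N)) →
        ∀ a ∈ I ^ c, a • φ ∈ (I ^ n • ⊤ : Submodule A (M →ₗ[A] N)) := by
  obtain ⟨a, π, hπ⟩ := Module.Finite.exists_fin' A M
  obtain ⟨b, G, hG⟩ := Submodule.fg_iff_exists_fin_generating_family.1
    (IsNoetherian.noetherian (LinearMap.ker π))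
  let E : (M →ₗ[A] N) →ₗ[A] (Fin a → N) := LinearMap.pi fun i => LinearMap.applyₗ (π (Pi.single i 1))
  let β : (Fin a → N) →ₗ[A] (Fin b → N) :=
    LinearMap.pi fun j => ∑ i, G j i • LinearMap.proj i
  have hval : ∀ {P : Type w} [AddCommGroup P] [Module A P] (φ : M →ₗ[A] P) (v : Fin a → A),
      φ (π v) = ∑ i, v i • φ (π (Pi.single i 1)) := by
    intro P _ _ φ v
    conv_lhs => rw [pi_eq_sum_univ' v]
    simp only [map_sum, map_smul]
  have hE : LinearMap.range E = LinearMap.ker β := by
    ext g
    constructor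
    · rintro ⟨φ, rfl⟩
      rw [LinearMap.mem_ker]
      funext j
      have : π (G j) = 0 := by
        rw [← LinearMap.mem_ker, ← hG]
        exact Submodule.subset_span ⟨j, rfl⟩
      simpa [β, E, Pi.zero_apply, this] using (hval φ (G j)).symm
    · intro hg
      let h := Fintype.linearCombination A g
      have hle : LinearMap.ker π ≤ LinearMap.ker h := by
        rw [← hG, Submodule.span_le]
        rintro _ ⟨j, rfl⟩
        have := congrFun (LinearMap.mem_ker.1 hg) j
        simpa [β, h, Fintype.linearCombination_apply] using this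
      let e := LinearMap.quotKerEquivOfSurjective π hπ
      refine ⟨(LinearMap.ker π).liftQ h hle ∘ₗ e.symm.toLinearMap, ?_⟩
      funext i
      show (LinearMap.ker π).liftQ h hle (e.symm (π (Pi.single i 1))) = g i
      rw [show π (Pi.single i 1) = e (Submodule.Quotient.mk (Pi.single i 1)) from rfl,
        LinearEquiv.symm_apply_apply, Submodule.liftQ_apply]
      simp [h, Fintype.linearCombination_apply, Pi.single_apply]
  have hEinj : Function.Injective E := by
    intro φ φ' h
    ext m
    obtain ⟨v, rfl⟩ := hπ m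
    rw [hval φ, hval φ']
    exact Finset.sum_congr rfl fun i _ => congrArg _ (congrFun h i)
  obtain ⟨c₁, hker⟩ := exists_subspace_bound I (LinearMap.range E)
  obtain ⟨c₂, hran⟩ := exists_range_bound I β
  refine ⟨c₁ + c₂, fun n ψ => ?_, fun n φ hφ x hx => ?_⟩
  · choose g hg using fun i => Submodule.mkQ_surjective (I ^ n • ⊤ : Submodule A N) (ψ (π (Pi.single i 1)))
    have hβ : β g ∈ (I ^ n • ⊤ : Submodule A (Fin b → N)) := by
      refine (mem_pow_pi_iff I n _).2 fun j => ?_
      have h0 : ψ (π (G j)) = 0 := by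
        rw [show π (G j) = 0 from LinearMap.mem_ker.1 (hG ▸ Submodule.subset_span ⟨j, rfl⟩), map_zero]
      rw [hval ψ] at h0
      rw [← Submodule.Quotient.mk_eq_zero]
      simp only [β, LinearMap.pi_apply, LinearMap.sum_apply, LinearMap.smul_apply, LinearMap.proj_apply]
      rw [← h0]
      show (I ^ n • ⊤ : Submodule A N).mkQ _ = _
      simp only [map_sum, map_smul, hg]
    obtain ⟨w, hw, hgw⟩ := hran _ g hβ
    rw [← hE] at hgw
    obtain ⟨φ, hφ⟩ := hgw
    have hwi := (mem_pow_pi_iff I _ w).1 hw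
    refine ⟨φ, LinearMap.ext fun m => ?_, fun x hx => LinearMap.ext fun m => ?_⟩
    · obtain ⟨v, rfl⟩ := hπ m
      rw [hval, hval]
      refine Finset.sum_congr rfl fun i _ => congrArg _ ?_
      rw [LinearMap.comp_apply, LinearMap.comp_apply, ← hg i]
      show Submodule.Quotient.mk (g i) = Submodule.Quotient.mk (φ (π (Pi.single i 1)))
      rw [Submodule.Quotient.eq, show φ (π (Pi.single i 1)) = g i - w i from congrFun hφ i, sub_sub_cancel]
      exact Submodule.smul_mono_left (Ideal.pow_le_pow_right (by omega)) (hwi i)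
    · obtain ⟨v, rfl⟩ := hπ m
      rw [hval, hval]
      refine Finset.sum_congr rfl fun i _ => congrArg _ ?_
      rw [LinearMap.comp_apply, LinearMap.smul_apply, LinearMap.smul_apply, ← hg i,
        Submodule.mkQ_apply, Submodule.mkQ_apply, ← Submodule.Quotient.mk_smul]
      rw [Submodule.Quotient.eq, show φ (π (Pi.single i 1)) = g i - w i from congrFun hφ i, smul_sub,
        sub_sub_cancel_left]
      refine neg_mem (smul_mem_pow I (⊤ : Submodule A N) (c := c₂) ?_ (hwi i))
      exact Ideal.pow_le_pow_right (by omega) hx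
  · have h1 : E φ ∈ (I ^ n • ⊤ : Submodule A (Fin a → N)) :=
      (mem_pow_pi_iff I n _).2 fun i => hφ _
    have h2 := smul_mem_pow I (LinearMap.range E) (c := c₁)
      (Ideal.pow_le_pow_right (by omega) hx) (hker n _ ⟨φ, rfl⟩ h1)
    rw [← map_smul, ← Submodule.map_top, ← Submodule.map_smul''] at h2
    obtain ⟨φ', hφ', heq⟩ := h2
    rwa [hEinj heq] at hφ'

end Groth.Agent.Completion.ArtinReesHom
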